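import Groth.Agent.Lib.AlgSpDescent.ThickTop
import Groth.Agent.Lib.AlgSpDecent.RedInduced
import Groth.Agent.Lib.AlgSpace.LqfScheme
import Groth.Agent.Lib.AlgSpace.SepDescend

/-!
# Closed subspaces proper over the base
-/

universe u

set_option backward.isDefEq.respectTransparency.types false

open CategoryTheory CategoryTheory.Limits AlgebraicGeometry Opposite MorphismProperty

namespace Groth.Agent.ProperSub15

open AlgSp Groth.Agent.AlgSpace Groth.Agent.AlgSpDecent Groth.Agent.AlgSpDescent

attribute [local simp] pullback.lift_fst pullback.lift_snd pullback.lift_fst_assoc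
  pullback.lift_snd_assoc limit.lift_π limit.lift_π_assoc

variable {S : Scheme.{u}}

section Joint

variable {κ : Type*} [Finite κ] {A : κ → Sp S} {W Y : Sp S} {a : ∀ k, A k ⟶ W} {g : W ⟶ Y}

/-- Universal closedness can be tested on a finite jointly surjective family. -/
theorem isUnivClosedMor_of_jointly (hs : ∀ w, ∃ k x, Points.map (a k) x = w)
    (h : ∀ k, IsUnivClosedMor (a k ≫ g)) : IsUnivClosedMor g := by
  intro Z Z' hZ t fst snd sq O hO
  have hc : ∀ k, IsClosedMap (Points.map (pullback.snd (a k) fst ≫ snd)) := fun k =>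
    h k hZ t (pullback.fst (a k) fst) _ ((IsPullback.of_hasPullback (a k) fst).paste_vert sq)
  have e : Points.map snd '' O = ⋃ k, Points.map (pullback.snd (a k) fst ≫ snd) ''
      (Points.map (pullback.snd (a k) fst) ⁻¹' O) := by
    ext z
    simp only [Set.mem_iUnion, Set.mem_image, Set.mem_preimage]
    constructor
    · rintro ⟨o, ho, rfl⟩
      obtain ⟨k, x, hx⟩ := hs (Points.map fst o)
      obtain ⟨w, -, hw⟩ := exists_point_lift (IsPullback.of_hasPullback (a k) fst) x o hx
      exact ⟨k, w, by rw [hw]; exact ho, by rw [Points.map_comp, hw]⟩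
    · rintro ⟨k, w, hw, rfl⟩
      exact ⟨_, hw, (Points.map_comp _ _ _).symm⟩
  rw [e]
  exact isClosed_iUnion_of_finite fun k => hc k _ (hO.preimage (Points.continuous_map _))

/-- Quasi-compactness can be tested on a finite jointly surjective family. -/
theorem isQuasiCompactMor_of_jointly (hA : ∀ k, IsAlgSpace (A k)) (hW : IsAlgSpace W)
    (hY : IsAlgSpace Y) (hs : ∀ w, ∃ k x, Points.map (a k) x = w)
    (h : ∀ k, IsQuasiCompactMor (a k ≫ g)) : IsQuasiCompactMor g :=
  isQuasiCompactMor_of_affine hW hY fun Z hZ t P fst snd sq => by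
    have := compactSpace_yon_of_affine Z
    have hc : ∀ k, CompactSpace (Points (pullback (a k) fst)) := fun k =>
      compactSpace_of_isQuasiCompactMor (hA k) hY (h k) (IsAlgSpace.yon_obj Z)
        ((IsPullback.of_hasPullback (a k) fst).paste_vert sq)
    refine ⟨?_⟩
    have e : (Set.univ : Set (Points P)) =
        ⋃ k, Set.range (Points.map (pullback.snd (a k) fst)) := by
      refine (Set.eq_univ_of_forall fun p => ?_).symm
      obtain ⟨k, x, hx⟩ := hs (Points.map fst p)
      obtain ⟨w, -, hw⟩ := exists_point_lift (IsPullback.of_hasPullback (a k) fst) x p hx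
      exact Set.mem_iUnion.2 ⟨k, w, hw⟩
    rw [e]
    exact isCompact_iUnion fun k => by
      have := hc k
      exact isCompact_range (Points.continuous_map _)

/-- Separatedness can be tested on a finite jointly surjective universally closed family. -/
theorem isSeparatedMor_of_jointly (hW : IsAlgSpace W)
    (hA : ∀ k, IsAlgSpace (A k)) (hY : IsAlgSpace Y) (hs : ∀ w, ∃ k x, Points.map (a k) x = w)
    (hac : ∀ k, IsUnivClosedMor (a k)) (h : ∀ k, IsSeparatedMor (a k ≫ g)) :
    IsSeparatedMor g := by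
  have hP := isAlgSpace_baseChange hW hY hW (IsPullback.of_hasPullback g g)
  refine repWith_closedImmersion_of_univClosed hW hP ?_
    (locP_of_repWith hP (repWith_diagonal_lft hW g))
  refine isUnivClosedMor_of_jointly hs fun k => ?_
  let q₁ : pullback (a k ≫ g) (a k ≫ g) ⟶ pullback g (a k ≫ g) :=
    pullback.map _ _ _ _ (a k) (𝟙 _) (𝟙 Y) (by simp) (by simp)
  let q₂ : pullback g (a k ≫ g) ⟶ pullback g g :=
    pullback.map _ _ _ _ (𝟙 W) (a k) (𝟙 Y) (by simp) (by simp)
  have sq₁ : IsPullback (pullback.fst (a k ≫ g) (a k ≫ g)) q₁ (a k)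
      (pullback.fst g (a k ≫ g)) :=
    IsPullback.of_bot (by simpa [q₁] using IsPullback.of_hasPullback (a k ≫ g) (a k ≫ g))
      (by simp [q₁]) (IsPullback.of_hasPullback g (a k ≫ g))
  have sq₂ : IsPullback q₂ (pullback.snd g (a k ≫ g)) (pullback.snd g g) (a k) :=
    IsPullback.of_right (by simpa [q₂] using IsPullback.of_hasPullback g (a k ≫ g)) (by simp [q₂])
      (IsPullback.of_hasPullback g g)
  have e : a k ≫ pullback.diagonal g = pullback.diagonal (a k ≫ g) ≫ q₁ ≫ q₂ := by
    apply pullback.hom_ext <;> simp [q₁, q₂]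
  have hPk := isAlgSpace_baseChange (hA k) hY (hA k) (IsPullback.of_hasPullback (a k ≫ g) (a k ≫ g))
  have hPm := isAlgSpace_baseChange hW hY (hA k) (IsPullback.of_hasPullback g (a k ≫ g))
  rw [e]
  exact isUnivClosedMor_comp hPk hP (isUnivClosedMor_of_repWith_closedImmersion (h k))
    (isUnivClosedMor_comp hPm hP (univSp_of_isPullback sq₁ (hac k))
      (univSp_of_isPullback sq₂.flip (hac k)))

/-- A morphism locally of finite type receiving a finite jointly surjective family of universally
closed morphisms with proper composites is proper. -/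
theorem isProperMor_of_jointly (hA : ∀ k, IsAlgSpace (A k)) (hW : IsAlgSpace W) (hY : IsAlgSpace Y)
    (hs : ∀ w, ∃ k x, Points.map (a k) x = w) (hac : ∀ k, IsUnivClosedMor (a k))
    (hg : LocP @LocallyOfFiniteType g) (h : ∀ k, IsProperMor (a k ≫ g)) : IsProperMor g :=
  ⟨isSeparatedMor_of_jointly hW hA hY hs hac fun k => (h k).1,
    ⟨hg, isQuasiCompactMor_of_jointly hA hW hY hs fun k => (h k).2.1.2⟩,
    isUnivClosedMor_of_jointly hs fun k => (h k).2.2⟩

end Joint

theorem isProperMor_of_closedImmersion {X Y : Sp S} (hX : IsAlgSpace X) (hY : IsAlgSpace Y)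
    {f : X ⟶ Y} (hf : RepWith @IsClosedImmersion f) : IsProperMor f :=
  (repWith_isProper_iff hX hY hf.1).1 (repWith_mono (fun _ _ _ h => by
    have : IsClosedImmersion _ := h
    infer_instance) hf)

theorem lft_comp_closedImmersion {Z X Y : Sp S} (hZ : IsAlgSpace Z) (hX : IsAlgSpace X)
    (hY : IsAlgSpace Y) {i : Z ⟶ X} (hi : RepWith @IsClosedImmersion i) {f : X ⟶ Y}
    (hf : LocP @LocallyOfFiniteType f) : LocP @LocallyOfFiniteType (i ≫ f) :=
  locP_comp hZ hX hY (lft_of_repWith_closedImmersion hX hi) hf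

/-- Properness of closed subspaces spreads to closed subspaces covered by them. -/
theorem isProperMor_of_subset_iUnion {κ : Type*} [Finite κ] {X Y W : Sp S} {Z : κ → Sp S}
    (hX : IsAlgSpace X) (hY : IsAlgSpace Y) (hW : IsAlgSpace W) (hZ : ∀ k, IsAlgSpace (Z k))
    {f : X ⟶ Y} (hf : LocP @LocallyOfFiniteType f) {i : ∀ k, Z k ⟶ X} {j : W ⟶ X}
    (hi : ∀ k, RepWith @IsClosedImmersion (i k)) (hj : RepWith @IsClosedImmersion j)
    (hsub : Set.range (Points.map j) ⊆ ⋃ k, Set.range (Points.map (i k)))
    (h : ∀ k, IsProperMor (i k ≫ f)) : IsProperMor (j ≫ f) := by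
  have hP : ∀ k, IsAlgSpace (pullback (i k) j) := fun k =>
    isAlgSpace_baseChange (hZ k) hX hW (IsPullback.of_hasPullback _ _)
  refine isProperMor_of_jointly (a := fun k => pullback.snd (i k) j) hP hW hY (fun w => ?_)
    (fun k => isUnivClosedMor_of_repWith_closedImmersion
      (repWith_of_isPullback (IsPullback.of_hasPullback (i k) j) (hi k)))
    (lft_comp_closedImmersion hW hX hY hj hf) fun k => ?_
  · obtain ⟨k, x, hx⟩ := Set.mem_iUnion.1 (hsub ⟨w, rfl⟩)
    obtain ⟨q, -, hq⟩ := exists_point_lift (IsPullback.of_hasPullback (i k) j) x w hx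
    exact ⟨k, q, hq⟩
  · rw [← pullback.condition_assoc]
    exact isProperMor_comp (hP k) (hZ k) hY (isProperMor_of_closedImmersion (hP k) (hZ k)
      (repWith_of_isPullback (IsPullback.of_hasPullback (i k) j).flip hj)) (h k)

/-- The closed subspace on a closed image of a proper closed subspace is proper. -/
theorem isProperMor_of_range_eq_image {X Y B Z Z' : Sp S} (hY : IsAlgSpace Y) (hB : IsAlgSpace B)
    (hZ : IsAlgSpace Z) (hZ' : IsAlgSpace Z') {b : Y ⟶ B} (hb : LocP @LocallyOfFiniteType b)
    {f : X ⟶ Y} {i : Z ⟶ X} {i' : Z' ⟶ Y} (hc : IsUnivClosedMor (i ≫ f))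
    (hi' : RepWith @IsClosedImmersion i')
    (hr : Set.range (Points.map i') = Points.map f '' Set.range (Points.map i))
    (hp : IsProperMor (i ≫ f ≫ b)) : IsProperMor (i' ≫ b) := by
  have hQ : IsAlgSpace (pullback (i ≫ f) i') :=
    isAlgSpace_baseChange hZ hY hZ' (IsPullback.of_hasPullback _ _)
  refine isProperMor_of_jointly (κ := Unit) (a := fun _ => pullback.snd (i ≫ f) i')
    (fun _ => hQ) hZ' hB (fun w => ?_)
    (fun _ => univSp_of_isPullback (IsPullback.of_hasPullback _ _) hc)
    (lft_comp_closedImmersion hZ' hY hB hi' hb) fun _ => ?_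
  · obtain ⟨_, ⟨z, rfl⟩, hz⟩ := hr.le ⟨w, rfl⟩
    obtain ⟨q, -, hq⟩ := exists_point_lift (IsPullback.of_hasPullback (i ≫ f) i') z w
      (by rw [Points.map_comp]; exact hz)
    exact ⟨(), q, hq⟩
  · rw [← pullback.condition_assoc, Category.assoc]
    exact isProperMor_comp hQ hZ hB (isProperMor_of_closedImmersion hQ hZ
      (repWith_of_isPullback (IsPullback.of_hasPullback (i ≫ f) i').flip hi')) hp

/-- The image of a proper closed subspace, with universally closed map, as a proper closed subspace. -/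
theorem exists_image {X Y B Z : Space S} (a : X ⟶ B) (b : Y ⟶ B) (f : X ⟶ Y) (hcomm : f ≫ b = a)
    (hb : LocP @LocallyOfFiniteType b.hom) (i : Z ⟶ X)
    (hc : IsUnivClosedMor (i.hom ≫ f.hom)) (hZ : IsProperMor (i ≫ a).hom) :
    IsClosed (Points.map f.hom '' Set.range (Points.map i.hom)) ∧
      ∃ (Z' : Space S) (i' : Z' ⟶ Y), RepWith @IsClosedImmersion i'.hom ∧
        Set.range (Points.map i'.hom) = Points.map f.hom '' Set.range (Points.map i.hom) ∧
        IsProperMor (i' ≫ b).hom := by
  have hcl : IsClosed (Points.map f.hom '' Set.range (Points.map i.hom)) := by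
    have h : IsClosedMap (Points.map (i.hom ≫ f.hom)) := isClosedMap_of_isUnivClosedMor Y.property hc
    rw [← Set.range_comp, ← map_comp_eq]
    exact h.isClosed_range
  obtain ⟨Z', i', hi', hr, -⟩ := RedInduced.exists_isRedInduced Y _ hcl
  have hZ' : IsProperMor (i.hom ≫ f.hom ≫ b.hom) := by
    have e : (f.hom ≫ b.hom) = a.hom := congrArg InducedCategory.Hom.hom hcomm
    rw [e]; exact hZ
  exact ⟨hcl, Z', i', hi', hr,
    isProperMor_of_range_eq_image Y.property B.property Z.property Z'.property hb hc hi' hr hZ'⟩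

end Groth.Agent.ProperSub15
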